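import Groth.Agent.AlgSt88.FibreMono
import Groth.Agent.AlgSt88.KerTrivial
import Mathlib.FieldTheory.IsAlgClosed.AlgebraicClosure

/-! A space over a scheme whose geometric fibres have at most one point is mapped monomorphically. -/

set_option autoImplicit false
set_option linter.style.haveILetI false
set_option backward.isDefEq.respectTransparency false
set_option backward.isDefEq.respectTransparency.types false
universe u

open CategoryTheory CategoryTheory.Limits AlgebraicGeometry
open Groth.Agent.AlgSt88

namespace Groth.Agent.AutAC44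

variable {S : Scheme.{u}} {E : AlgSp.Sp S} {T : Over S}

/-- At most one section over every scheme over a geometric point. -/
def FibSubsingletonAC (q : E ⟶ (AlgSp.yon S).obj T) : Prop :=
  ∀ (K : Type u) [Field K] [IsAlgClosed K] (str : Spec (CommRingCat.of K) ⟶ S) (t : Over.mk str ⟶ T)
    (W : Over S) (r : W ⟶ Over.mk str) (a b : (AlgSp.yon S).obj W ⟶ E),
    a ≫ q = (AlgSp.yon S).map (r ≫ t) → b ≫ q = (AlgSp.yon S).map (r ≫ t) → a = b

theorem fpqc_specMap_field {A : CommRingCat.{u}} (hA : IsField A) {Ω : Type u} [Field Ω]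
    (f : Spec (CommRingCat.of Ω) ⟶ Spec A) : Unr55.fpqc f := by
  obtain ⟨φ, rfl⟩ := Spec.map_surjective f
  letI := hA.toField
  refine ⟨⟨⟨fun y => ⟨IsLocalRing.closedPoint Ω, Subsingleton.elim (α := PrimeSpectrum A) _ _⟩⟩, ?_⟩, inferInstance⟩
  rw [HasRingHomProperty.Spec_iff (P := @Flat)]
  algebraize [φ.hom]
  exact inferInstanceAs (Module.Flat A Ω)

theorem chart_fibre_formallyUnramified_ac {q : E ⟶ (AlgSp.yon S).obj T} (h : FibSubsingletonAC q)
    {W : Over S} (a₀ : (AlgSp.yon S).obj W ⟶ E) (ha : AlgSp.RepWith @Etale a₀) (c : W ⟶ T)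
    (hc : (AlgSp.yon S).map c = a₀ ≫ q) [LocallyOfFiniteType c.left] (y : T.left) :
    FormallyUnramified (c.left.fiberToSpecResidueField y) := by
  let Ω := AlgebraicClosure (T.left.residueField y)
  let w : Spec (CommRingCat.of Ω) ⟶ Spec (T.left.residueField y) :=
    Spec.map (CommRingCat.ofHom (algebraMap (T.left.residueField y) Ω))
  let k : Over S := Over.mk ((w ≫ T.left.fromSpecResidueField y) ≫ T.hom)
  let t : k ⟶ T := Over.homMk (w ≫ T.left.fromSpecResidueField y) rfl
  let P : Over S := pullback c t
  let pr : P ⟶ W := pullback.fst c t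
  let st : P ⟶ k := pullback.snd c t
  have hP : IsPullback pr st c t := IsPullback.of_hasPullback c t
  have hPl : IsPullback pr.left st.left c.left t.left := hP.map (Over.forget S)
  let g : (AlgSp.yon S).obj P ⟶ E := (AlgSp.yon S).map pr ≫ a₀
  have hg : g ≫ q = (AlgSp.yon S).map (st ≫ t) := by
    rw [Category.assoc, ← hc, ← Functor.map_comp, hP.w]
  let W' := ha.rep.pullback g
  let i : W' ⟶ P := ha.rep.snd g
  have het : Etale i.left := ha.property_snd g
  have sq : IsPullback (ha.rep.fst g) ((AlgSp.yon S).map i) a₀ g := ha.rep.isPullback g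
  obtain ⟨f, hf⟩ := (AlgSp.yon S).map_surjective (ha.rep.fst g)
  let Q : Over S := pullback st st
  have hQ : IsPullback (pullback.fst st st) (pullback.snd st st) st st := IsPullback.of_hasPullback st st
  -- the comparison from the product over the point
  have e : (AlgSp.yon S).map (pullback.fst st st ≫ pr) ≫ a₀ =
      (AlgSp.yon S).map (pullback.snd st st) ≫ g := by
    refine h Ω _ t Q (pullback.snd st st ≫ st) _ _ ?_ ?_
    · rw [Category.assoc, ← hc, ← Functor.map_comp, Category.assoc, hP.w, ← Category.assoc, hQ.w]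
    · rw [Category.assoc, hg, ← Functor.map_comp, Category.assoc]
  obtain ⟨m, hm⟩ := (AlgSp.yon S).map_surjective (sq.lift _ _ e)
  have hmf : m ≫ f = pullback.fst st st ≫ pr := (AlgSp.yon S).map_injective (by
    rw [Functor.map_comp, hm, hf, sq.lift_fst])
  have hmi : m ≫ i = pullback.snd st st := (AlgSp.yon S).map_injective (by
    rw [Functor.map_comp, hm, sq.lift_snd])
  have hfc : f ≫ c = (i ≫ st) ≫ t := (AlgSp.yon S).map_injective (by
    rw [Functor.map_comp, hf, hc, ← Category.assoc, sq.w, Category.assoc, hg, ← Functor.map_comp,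
      Category.assoc])
  let f' : W' ⟶ P := hP.lift f (i ≫ st) hfc
  let n : W' ⟶ Q := hQ.lift f' i (hP.lift_snd _ _ _)
  have hn : n ≫ pullback.snd st st = i := hQ.lift_snd _ _ _
  have hn' : n ≫ pullback.fst st st = f' := hQ.lift_fst _ _ _
  have hnm : n ≫ m = 𝟙 W' := by
    refine (AlgSp.yon S).map_injective (sq.hom_ext ?_ ?_)
    · rw [← hf, ← Functor.map_comp, ← Functor.map_comp, Category.assoc, hmf, reassoc_of% hn',
        hP.lift_fst, Category.id_comp]
    · rw [← Functor.map_comp, ← Functor.map_comp, Category.assoc, hmi, hn, Category.id_comp]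
  have hmn : m ≫ n = 𝟙 Q := by
    apply hQ.hom_ext
    · rw [Category.assoc, hn', Category.id_comp]
      apply hP.hom_ext
      · rw [Category.assoc, hP.lift_fst, hmf]
      · rw [Category.assoc, hP.lift_snd, reassoc_of% hmi, hQ.w]
    · rw [Category.assoc, hn, hmi, Category.id_comp]
  have hQs : FormallyUnramified (pullback.snd st st).left := by
    rw [← hmi]
    have : IsIso m := ⟨n, hmn, hnm⟩
    have : IsIso m.left := inferInstanceAs (IsIso ((Over.forget S).map m))
    exact inferInstanceAs (FormallyUnramified (m.left ≫ i.left))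
  have hst : LocallyOfFiniteType st.left := MorphismProperty.of_isPullback hPl ‹_›
  have hQl : IsPullback (pullback.fst st st).left (pullback.snd st st).left st.left st.left :=
    hQ.map (Over.forget S)
  have h1 : FormallyUnramified (pullback.snd st.left st.left) := by
    rw [← hQl.isoPullback_hom_snd] at hQs
    exact (MorphismProperty.cancel_left_of_respectsIso @FormallyUnramified _ _).1 hQs
  have h2 : FormallyUnramified st.left := formallyUnramified_of_self st.left h1
  rw [← hPl.isoPullback_hom_snd] at h2
  have h3 : FormallyUnramified (pullback.snd c.left (w ≫ T.left.fromSpecResidueField y)) :=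
    (MorphismProperty.cancel_left_of_respectsIso @FormallyUnramified _ _).1 h2
  refine MorphismProperty.of_pullback_fst_of_descendsAlong (P := @FormallyUnramified) (Q := Unr55.fpqc.{u}) (fpqc_specMap_field (Field.toIsField (T.left.residueField y)) w)
    (g := c.left.fiberToSpecResidueField y) ?_
  rw [← pullbackSymmetry_hom_comp_snd,
    MorphismProperty.cancel_left_of_respectsIso @FormallyUnramified]
  change FormallyUnramified (pullback.snd (pullback.snd c.left (T.left.fromSpecResidueField y)) w)
  rw [← MorphismProperty.cancel_left_of_respectsIso @FormallyUnramified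
    (pullbackLeftPullbackSndIso c.left (T.left.fromSpecResidueField y) w).inv,
    pullbackLeftPullbackSndIso_inv_snd_snd]
  exact h3

theorem mono_of_fibSubsingletonAC {q : E ⟶ (AlgSp.yon S).obj T} (hE : AlgSp.IsAlgSpace E)
    (hl : AlgSp.LocP @LocallyOfFiniteType q) (h : FibSubsingletonAC q) : Mono q := by
  obtain ⟨W, a₀, ha, has⟩ := hE.atlas
  obtain ⟨c, hc⟩ := (AlgSp.yon S).map_surjective (a₀ ≫ q)
  have : LocallyOfFiniteType c.left := SpPts86.locP_apply hl ha hc.symm
  have hfu : FormallyUnramified c.left :=
    AlgGrp79.formallyUnramified_of_fiberToSpecResidueField c.left (chart_fibre_formallyUnramified_ac h a₀ ha c hc)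
  refine SpFP87.mono_of_unramified_univInjective hE (AlgSp.IsAlgSpace.yon_obj T)
    (SpFP87.locP_unramified_of_formallyUnramified hl
      (SpFP87.unramified_of_chart (b := 𝟙 _) (h := c) ha has (AlgSp.repWith_id @Etale T) (by rw [Category.comp_id, hc]) hfu))
    (univInjective_of_algClosedInj fun K _ _ str a b hab => ?_)
  obtain ⟨t, ht⟩ := (AlgSp.yon S).map_surjective (a ≫ q)
  exact h K str t (Over.mk str) (𝟙 _) a b (by rw [Category.id_comp, ht]) (by rw [Category.id_comp, ht]; exact hab.symm)

end Groth.Agent.AutAC44
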